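import Mathlib

/-!
Coflasque lattices: vanishing of `H¹` on subgroups and splitting of extensions by permutation
modules.
-/

set_option autoImplicit false

open CategoryTheory
open scoped MonoidAlgebra

namespace Groth.Agent.Coflasque

attribute [local instance high] Rep.hV2
attribute [local instance 50] AddCommGroup.toIntModule

variable {Γ : Type} [Group Γ]

theorem exists_coboundary {H : Type} [Group H] (B : Rep ℤ H)
    (hB : Limits.IsZero (groupCohomology B 1)) (f : H → B)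
    (hf : ∀ g h : H, f (g * h) = B.ρ g (f h) + f g) :
    ∃ v : B, ∀ g, B.ρ g v - v = f g := by
  haveI : Subsingleton (groupCohomology B 1) := ModuleCat.subsingleton_of_isZero hB
  have h0 : groupCohomology.H1π B ⟨f, (groupCohomology.mem_cocycles₁_iff f).mpr hf⟩ = 0 :=
    Subsingleton.elim _ _
  rw [groupCohomology.H1π_eq_zero_iff] at h0
  obtain ⟨v, hv⟩ := h0
  exact ⟨v, fun g => congrFun hv g⟩

theorem isZero_H1 {H : Type} [Group H] (B : Rep ℤ H)
    (hB : ∀ f : H → B, (∀ g h : H, f (g * h) = B.ρ g (f h) + f g) →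
      ∃ v : B, ∀ g, B.ρ g v - v = f g) :
    Limits.IsZero (groupCohomology B 1) := by
  suffices h : ∀ x : groupCohomology B 1, x = 0 by
    haveI : Subsingleton (groupCohomology B 1) := ⟨fun a b => (h a).trans (h b).symm⟩
    exact ModuleCat.isZero_of_subsingleton _
  intro x
  induction x using groupCohomology.H1_induction_on with
  | _ c =>
    rw [groupCohomology.H1π_eq_zero_iff]
    obtain ⟨v, hv⟩ := hB c ((groupCohomology.mem_cocycles₁_iff _).mp c.2)
    exact ⟨v, funext hv⟩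

/-- The linear map out of `ℤ[X]` with prescribed values. -/
noncomputable def lift1 {X M : Type} [AddCommGroup M] [Module ℤ M] (u : X → M) : ℤ[X] →ₗ[ℤ] M :=
  (Finsupp.linearCombination ℤ u) ∘ₗ (MonoidAlgebra.coeffLinearEquiv ℤ).toLinearMap

@[simp] theorem lift1_single {X M : Type} [AddCommGroup M] [Module ℤ M] (u : X → M) (x : X)
    (r : ℤ) : lift1 u (MonoidAlgebra.single x r) = r • u x := by
  simp [lift1]
  exact int_smul_eq_zsmul (h := ‹Module ℤ M›) r (u x)

theorem ext1 {X M : Type} [AddCommGroup M] [Module ℤ M] {f g : ℤ[X] →ₗ[ℤ] M}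
    (h : ∀ x, f (MonoidAlgebra.single x 1) = g (MonoidAlgebra.single x 1)) : f = g :=
  MonoidAlgebra.lhom_ext' fun x => LinearMap.ext_ring (by simpa using h x)

theorem injective_f {E : ShortComplex (Rep ℤ Γ)} (hE : E.ShortExact) :
    Function.Injective E.f.hom := (Rep.mono_iff_injective E.f).mp hE.mono_f

theorem surjective_g {E : ShortComplex (Rep ℤ Γ)} (hE : E.ShortExact) :
    Function.Surjective E.g.hom := (Rep.epi_iff_surjective E.g).mp hE.epi_g

theorem mem_range_f {E : ShortComplex (Rep ℤ Γ)} (hE : E.ShortExact) (x : E.X₂)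
    (hx : E.g.hom x = 0) : ∃ y, E.f.hom y = x :=
  (ShortComplex.moduleCat_exact_iff _).mp
    (hE.map_of_exact (forget₂ (Rep ℤ Γ) (ModuleCat ℤ))).exact x hx

/-- The `→` direction. -/
theorem split_of_isZero {L : Rep ℤ Γ}
    (h : ∀ Γ' : Subgroup Γ, Limits.IsZero (groupCohomology (Rep.res Γ'.subtype L) 1))
    (X : Type) [MulAction Γ X] (E : ShortComplex (Rep ℤ Γ)) (hE : E.ShortExact)
    (α : E.X₁ ≅ L) (j : E.X₃ ≅ Rep.ofMulAction ℤ Γ X) : Nonempty E.Splitting := by
  classical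
  haveI := hE.mono_f
  let i : L → E.X₂ := fun y => E.f.hom (α.inv.hom y)
  have hi : Function.Injective i := (injective_f hE).comp
    (fun a b hab => by simpa using congrArg α.hom.hom hab)
  have hi_add : ∀ a b, i (a + b) = i a + i b := fun a b => by simp [i]
  have hi_sub : ∀ a b, i (a - b) = i a - i b := fun a b => by simp [i]
  have hi_rho : ∀ (g : Γ) a, i (L.ρ g a) = E.X₂.ρ g (i a) := fun g a => by
    simp only [i]
    rw [Rep.hom_comm_apply, Rep.hom_comm_apply]
  let p : E.X₂ → ℤ[X] := fun y => j.hom.hom (E.g.hom y)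
  have hp_rho : ∀ (g : Γ) y, p (E.X₂.ρ g y) = Representation.ofMulAction ℤ Γ X g (p y) := fun g y => by
    simp only [p]
    rw [Rep.hom_comm_apply, Rep.hom_comm_apply]
  have hker : ∀ y, p y = 0 → ∃ a, i a = y := by
    intro y hy
    obtain ⟨z, hz⟩ := mem_range_f hE y (by simpa [p] using congrArg j.inv.hom hy)
    exact ⟨α.hom.hom z, by simp only [i]; rw [Rep.inv_hom_apply, hz]⟩
  have hpi : ∀ a, p (i a) = 0 := fun a => by
    simp only [p, i]
    rw [← Rep.comp_apply E.f E.g, E.zero]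
    simp
  -- fixed lifts
  have key : ∀ x : X, ∃ e : E.X₂, p e = MonoidAlgebra.single x 1 ∧
      ∀ g ∈ MulAction.stabilizer Γ x, E.X₂.ρ g e = e := by
    intro x
    obtain ⟨e₀, he₀⟩ : ∃ e₀, p e₀ = MonoidAlgebra.single x 1 := by
      obtain ⟨y, hy⟩ := surjective_g hE (j.inv.hom (MonoidAlgebra.single x 1))
      exact ⟨y, by simp only [p]; rw [hy, Rep.hom_inv_apply]⟩
    have hc : ∀ g : MulAction.stabilizer Γ x, ∃ a, i a = E.X₂.ρ (g : Γ) e₀ - e₀ := fun g => by
      refine hker _ ?_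
      have : p (E.X₂.ρ (g : Γ) e₀) = p e₀ := by
        rw [hp_rho, he₀, Representation.ofMulAction_single, MulAction.mem_stabilizer_iff.mp g.2]
      simpa [p, map_sub, sub_eq_zero] using this
    choose c hc using hc
    obtain ⟨v, hv⟩ := exists_coboundary (Rep.res (MulAction.stabilizer Γ x).subtype L)
      (h _) c (fun g g' => hi (by
        show i (c (g * g')) = i (L.ρ (g : Γ) (c g') + c g)
        rw [hi_add, hi_rho, hc, hc, hc, Subgroup.coe_mul, map_mul, Module.End.mul_apply, map_sub]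
        abel))
    refine ⟨e₀ - i v, ?_, fun g hg => ?_⟩
    · have := hpi v
      simp only [p, map_sub] at this ⊢
      rw [this, sub_zero]
      exact he₀
    · have h1 := congrArg i (hv ⟨g, hg⟩)
      change i (L.ρ g v - v) = i (c ⟨g, hg⟩) at h1
      rw [hi_sub, hi_rho, hc] at h1
      rw [map_sub]
      linear_combination (norm := abel) -h1
  choose e hep hefix using key
  let r : X → X := fun x => (Quotient.mk (MulAction.orbitRel Γ X) x).out
  have hr : ∀ (g : Γ) x, r (g • x) = r x := fun g x =>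
    congrArg Quotient.out (Quotient.sound (MulAction.mem_orbit x g))
  have ht : ∀ x, ∃ t : Γ, t • r x = x := fun x => by
    have := Quotient.mk_out (s := MulAction.orbitRel Γ X) x
    obtain ⟨t, ht⟩ := MulAction.mem_orbit_symm.mp this
    exact ⟨t, ht⟩
  choose t ht using ht
  let u : X → E.X₂ := fun x => E.X₂.ρ (t x) (e (r x))
  have hu : ∀ (g : Γ) x, E.X₂.ρ g (u x) = u (g • x) := by
    intro g x
    have hs : (t (g • x))⁻¹ * (g * t x) ∈ MulAction.stabilizer Γ (r x) := by
      have h1 := ht (g • x)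
      rw [hr] at h1
      rw [MulAction.mem_stabilizer_iff, mul_smul, mul_smul, ht, inv_smul_eq_iff, h1]
    have h2 := congrArg (E.X₂.ρ (t (g • x))) (hefix (r x) _ hs)
    rw [← Module.End.mul_apply, ← map_mul, mul_inv_cancel_left, map_mul, Module.End.mul_apply] at h2
    simp only [u, hr]
    exact h2
  let sσ : Rep.ofMulAction ℤ Γ X ⟶ E.X₂ := Rep.ofHom
    (LinearMap.intertwiningMap_of_isIntertwiningMap _ _ (lift1 u) (fun g v => by
      refine LinearMap.congr_fun (f := (lift1 u) ∘ₗ Representation.ofMulAction ℤ Γ X g)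
        (g := (E.X₂.ρ g) ∘ₗ lift1 u) (ext1 fun x => ?_) v
      simp [hu]))
  have hs : sσ ≫ E.g ≫ j.hom = 𝟙 _ := by
    apply Rep.hom_ext
    apply Representation.IntertwiningMap.toLinearMap_injective
    refine ext1 fun x => ?_
    show p (lift1 u (MonoidAlgebra.single x 1)) = MonoidAlgebra.single x 1
    rw [lift1_single, one_smul]
    simp only [u]
    rw [hp_rho, hep, Representation.ofMulAction_single, ht]
  refine ⟨ShortComplex.Splitting.ofExactOfSection E hE.exact (j.hom ≫ sσ) ?_ hE.mono_f⟩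
  rw [← cancel_mono j.hom]
  simp [Category.assoc, hs]

/-- The `←` direction. -/
theorem isZero_of_split [Finite Γ] {L : Rep ℤ Γ}
    (h : ∀ (X : Type) [MulAction Γ X] [Finite X] (E : ShortComplex (Rep ℤ Γ)),
        E.ShortExact → Nonempty (E.X₁ ≅ L) → Nonempty (E.X₃ ≅ Rep.ofMulAction ℤ Γ X) →
          Nonempty E.Splitting)
    (H : Subgroup Γ) : Limits.IsZero (groupCohomology (Rep.res H.subtype L) 1) := by
  classical
  refine isZero_H1 _ fun c hc => ?_
  have hc' : ∀ g g' : H, c (g * g') = L.ρ (g : Γ) (c g') + c g := hc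
  let x₀ : Γ ⧸ H := (1 : Γ)
  let s : Γ ⧸ H → Γ := fun q => if q = x₀ then 1 else q.out
  have hs : ∀ q, (s q : Γ ⧸ H) = q := fun q => by
    by_cases hq : q = x₀
    · simp [s, hq, x₀]
    · simp [s, hq]
  have hmem : ∀ (g : Γ) (q : Γ ⧸ H), (s (g • q))⁻¹ * (g * s q) ∈ H := fun g q => by
    rw [← QuotientGroup.eq, hs]
    conv_lhs => rw [← hs q]
    rfl
  let f : Γ → Γ ⧸ H → L := fun g q => L.ρ (s (g • q)) (c ⟨_, hmem g q⟩)
  have hf : ∀ g g' q, f (g * g') q = L.ρ g (f g' q) + f g (g' • q) := by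
    intro g g' q
    have hsp : (⟨_, hmem (g * g') q⟩ : H) = ⟨_, hmem g (g' • q)⟩ * ⟨_, hmem g' q⟩ := by
      apply Subtype.ext
      simp only [Subgroup.coe_mul, mul_smul]
      group
    simp only [f]
    rw [hsp, hc', map_add, ← Module.End.mul_apply, ← map_mul, ← Module.End.mul_apply, ← map_mul,
      mul_smul]
    simp only [mul_inv_cancel_left]
  let Lg : Γ → ℤ[Γ ⧸ H] →ₗ[ℤ] L := fun g => lift1 (f g)
  let P : Representation ℤ Γ ℤ[Γ ⧸ H] := Representation.ofMulAction ℤ Γ (Γ ⧸ H)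
  have hf1 : ∀ q, f 1 q = 0 := fun q => by
    have := hf 1 1 q
    simpa using this
  have hLg : ∀ g g', Lg (g * g') = (L.ρ g) ∘ₗ Lg g' + Lg g ∘ₗ P g' := fun g g' => ext1 fun q => by
    simp [Lg, P, hf]
  let ρE : Representation ℤ Γ (L × ℤ[Γ ⧸ H]) :=
    { toFun := fun g => LinearMap.prod
        (L.ρ g ∘ₗ LinearMap.fst ℤ L ℤ[Γ ⧸ H] + Lg g ∘ₗ LinearMap.snd ℤ L ℤ[Γ ⧸ H])
        (P g ∘ₗ LinearMap.snd ℤ L ℤ[Γ ⧸ H])
      map_one' := by
        have h1 : Lg 1 = 0 := ext1 fun q => by simp [Lg, hf1]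
        rw [h1, map_one, map_one]
        refine LinearMap.ext fun x => ?_
        simp
      map_mul' := fun g g' => by
        rw [hLg, map_mul, map_mul]
        refine LinearMap.ext fun x => ?_
        simp [Module.End.mul_apply, add_assoc] }
  let fE : L ⟶ Rep.of ρE := ConcreteCategory.ofHom (C := Rep ℤ Γ)
    (LinearMap.intertwiningMap_of_isIntertwiningMap L.ρ ρE (LinearMap.inl ℤ L ℤ[Γ ⧸ H])
      (fun g v => by simp [ρE]))
  let gE : Rep.of ρE ⟶ Rep.ofMulAction ℤ Γ (Γ ⧸ H) := Rep.ofHom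
    (LinearMap.intertwiningMap_of_isIntertwiningMap ρE P (LinearMap.snd ℤ L ℤ[Γ ⧸ H])
      (fun g v => by simp [ρE]))
  have hzero : fE ≫ gE = 0 := by
    apply Rep.hom_ext
    apply Representation.IntertwiningMap.toLinearMap_injective
    refine LinearMap.ext fun v => ?_
    rfl
  have hSE : (ShortComplex.mk fE gE hzero).ShortExact := by
    haveI : Mono fE := (Rep.mono_iff_injective fE).mpr fun a b hab => congrArg Prod.fst hab
    haveI : Epi gE := (Rep.epi_iff_surjective gE).mpr fun y => ⟨(0, y), rfl⟩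
    refine ShortComplex.ShortExact.mk' ?_ ‹_› ‹_›
    refine (ShortComplex.exact_map_iff_of_faithful _ (forget₂ (Rep ℤ Γ) (ModuleCat ℤ))).mp ?_
    rw [ShortComplex.moduleCat_exact_iff]
    rintro ⟨a, b⟩ (hb : b = 0)
    subst hb
    exact ⟨a, rfl⟩
  obtain ⟨σ⟩ := h (Γ ⧸ H) _ hSE ⟨Iso.refl _⟩ ⟨Iso.refl _⟩
  set w : L × ℤ[Γ ⧸ H] := σ.s.hom (MonoidAlgebra.single x₀ 1) with hw
  have hw2 : w.2 = MonoidAlgebra.single x₀ 1 :=
    DFunLike.congr_fun (congrArg Rep.Hom.hom σ.s_g) (MonoidAlgebra.single x₀ 1)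
  refine ⟨-w.1, fun g => ?_⟩
  have hfix : (g : Γ) • x₀ = x₀ := by
    show (((g : Γ) * 1 : Γ) : Γ ⧸ H) = ((1 : Γ) : Γ ⧸ H)
    rw [QuotientGroup.eq]; simp
  have h1 := Rep.hom_comm_apply σ.s (g : Γ) (MonoidAlgebra.single x₀ 1)
  have h2 : ρE (g : Γ) w = w := by
    rw [hw]
    refine h1.symm.trans ?_
    show σ.s.hom (P (g : Γ) (MonoidAlgebra.single x₀ 1)) = _
    simp [P, hfix]
  have h3 := congrArg Prod.fst h2
  change L.ρ (g : Γ) w.1 + Lg (g : Γ) w.2 = w.1 at h3
  have hsx : s x₀ = 1 := by simp [s]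
  have hfg : f (g : Γ) x₀ = c g := by
    have hg' : (⟨_, hmem (g : Γ) x₀⟩ : H) = g := Subtype.ext (by simp [hfix, hsx])
    show L.ρ (s ((g : Γ) • x₀)) (c ⟨_, hmem (g : Γ) x₀⟩) = c g
    rw [hg', hfix, hsx, map_one]
    rfl
  rw [hw2, show Lg (g : Γ) (MonoidAlgebra.single x₀ 1) = c g by simp [Lg, hfg]] at h3
  show L.ρ (g : Γ) (-w.1) - -w.1 = c g
  rw [map_neg]
  linear_combination (norm := abel) -h3

end Groth.Agent.Coflasque
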